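import Mathlib

/-!
Values of cyclotomic polynomials at natural numbers and their prime divisors.
-/

namespace Cfsg.Agent.NumberTheory

open Polynomial

/-- The absolute value of the `n`-th cyclotomic polynomial at `a`. -/
noncomputable def Phi (n a : ℕ) : ℕ := ((cyclotomic n ℤ).eval (a : ℤ)).natAbs

/-- `r` is a primitive prime divisor of `a ^ n - 1`. -/
def IsPrimitivePrimeDivisor (r a n : ℕ) : Prop :=
  r.Prime ∧ r ∣ a ^ n - 1 ∧ ∀ k : ℕ, 0 < k → k < n → ¬ r ∣ a ^ k - 1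

lemma dvd_pow_sub_one_iff {r a n : ℕ} (ha : 0 < a) :
    r ∣ a ^ n - 1 ↔ (a : ZMod r) ^ n = 1 := by
  rw [← ZMod.natCast_eq_zero_iff, Nat.cast_sub (Nat.one_le_pow _ _ ha)]
  simp [sub_eq_zero]

lemma isPrimitivePrimeDivisor_iff {r a n : ℕ} (hr : r.Prime) (ha : 0 < a) (hn : 0 < n) :
    IsPrimitivePrimeDivisor r a n ↔ orderOf (a : ZMod r) = n := by
  constructor
  · rintro ⟨-, h1, h2⟩
    rw [orderOf_eq_iff hn]
    refine ⟨(dvd_pow_sub_one_iff ha).1 h1, fun k hk hk0 h => ?_⟩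
    exact h2 k hk0 hk ((dvd_pow_sub_one_iff ha).2 h)
  · intro h
    refine ⟨hr, (dvd_pow_sub_one_iff ha).2 (h ▸ pow_orderOf_eq_one _), fun k hk hkn hd => ?_⟩
    have := orderOf_dvd_of_pow_eq_one ((dvd_pow_sub_one_iff ha).1 hd)
    rw [h] at this
    exact absurd (Nat.le_of_dvd hk this) (not_le.2 hkn)

lemma IsPrimitivePrimeDivisor.dvd_pow_sub_one_iff' {r a n k : ℕ}
    (h : IsPrimitivePrimeDivisor r a n) (ha : 0 < a) (hn : 0 < n) :
    r ∣ a ^ k - 1 ↔ n ∣ k := by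
  rw [dvd_pow_sub_one_iff ha, ← orderOf_dvd_iff_pow_eq_one,
    (isPrimitivePrimeDivisor_iff h.1 ha hn).1 h]

lemma IsPrimitivePrimeDivisor.dvd_sub_one {r a n : ℕ}
    (h : IsPrimitivePrimeDivisor r a n) (ha : 0 < a) (hn : 0 < n) : n ∣ r - 1 := by
  have := Fact.mk h.1
  have h1 := (isPrimitivePrimeDivisor_iff h.1 ha hn).1 h
  rw [← h1]
  apply orderOf_dvd_of_pow_eq_one
  apply ZMod.pow_card_sub_one_eq_one
  intro h0
  rw [h0, orderOf_zero] at h1
  omega

lemma IsPrimitivePrimeDivisor.lt {r a n : ℕ}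
    (h : IsPrimitivePrimeDivisor r a n) (ha : 0 < a) (hn : 0 < n) : n < r := by
  have h1 := h.1.two_le
  have := Nat.le_of_dvd (by omega) (h.dvd_sub_one ha hn)
  omega

lemma Phi_eq_cast {n a : ℕ} (ha : 1 < a) :
    ((Phi n a : ℕ) : ℝ) = (cyclotomic n ℝ).eval (a : ℝ) := by
  have h1 := cyclotomic.eval_apply (a : ℤ) n (algebraMap ℤ ℝ)
  simp only [algebraMap_int_eq, eq_intCast, Int.cast_natCast] at h1
  have h2 : 0 < (cyclotomic n ℝ).eval (a : ℝ) := cyclotomic_pos' n (by exact_mod_cast ha)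
  have h3 : 0 < (cyclotomic n ℤ).eval (a : ℤ) := by
    rw [h1] at h2; exact_mod_cast h2
  rw [Phi, Nat.cast_natAbs, abs_of_pos h3, h1]

lemma Phi_pos {n a : ℕ} (ha : 1 < a) : 0 < Phi n a := by
  have h := Phi_eq_cast (n := n) ha
  have h2 : 0 < (cyclotomic n ℝ).eval (a : ℝ) := cyclotomic_pos' n (by exact_mod_cast ha)
  rw [← h] at h2
  exact_mod_cast h2

lemma Phi_one {a : ℕ} (ha : 0 < a) : Phi 1 a = a - 1 := by
  simp only [Phi, cyclotomic_one, eval_sub, eval_X, eval_one]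
  omega

lemma Phi_two (a : ℕ) : Phi 2 a = a + 1 := by
  simp only [Phi, cyclotomic_two, eval_add, eval_X, eval_one]
  omega

lemma Phi_dvd (n : ℕ) {a : ℕ} (ha : 0 < a) : Phi n a ∣ a ^ n - 1 := by
  have h := (eval_dvd (x := (a : ℤ)) (cyclotomic.dvd_X_pow_sub_one n ℤ))
  simp only [eval_sub, eval_pow, eval_X, eval_one] at h
  have h2 : ((a : ℤ) ^ n - 1).natAbs = a ^ n - 1 := by
    have : 1 ≤ a ^ n := Nat.one_le_pow _ _ ha
    zify [this]
    simp
    exact_mod_cast this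
  rw [← h2]
  exact Int.natAbs_dvd_natAbs.2 h

lemma dvd_Phi_iff {r n a : ℕ} :
    r ∣ Phi n a ↔ (cyclotomic n (ZMod r)).IsRoot (a : ZMod r) := by
  rw [Phi, ← Int.natCast_dvd, ← ZMod.intCast_zmod_eq_zero_iff_dvd, IsRoot.def,
    ← map_cyclotomic_int n (ZMod r)]
  rw [eval_map]
  have : eval₂ (Int.castRingHom (ZMod r)) (a : ZMod r) (cyclotomic n ℤ)
      = ((eval (a : ℤ) (cyclotomic n ℤ) : ℤ) : ZMod r) := by
    have := eval₂_at_apply (p := cyclotomic n ℤ) (Int.castRingHom (ZMod r)) (a : ℤ)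
    simpa using this
  rw [this]

/-- A prime dividing `Phi (r ^ k * m) a`, with `r ∤ m`, sees `a` as an element of order `m`. -/
lemma orderOf_of_dvd_Phi {r m k a : ℕ} (hr : r.Prime) (hm : ¬ r ∣ m)
    (h : r ∣ Phi (r ^ k * m) a) : orderOf (a : ZMod r) = m := by
  have := Fact.mk hr
  have : NeZero (m : ZMod r) := ⟨by rwa [Ne, ZMod.natCast_eq_zero_iff]⟩
  exact (isRoot_cyclotomic_prime_pow_mul_iff_of_charP.1 (dvd_Phi_iff.1 h)).eq_orderOf.symm

lemma isPrimitivePrimeDivisor_of_dvd_Phi {r n a : ℕ} (hr : r.Prime) (ha : 0 < a) (hn : 0 < n)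
    (hrn : ¬ r ∣ n) (h : r ∣ Phi n a) : IsPrimitivePrimeDivisor r a n := by
  rw [isPrimitivePrimeDivisor_iff hr ha hn]
  exact orderOf_of_dvd_Phi (k := 0) hr hrn (by simpa using h)

/-- A prime divisor of both `n` and `Phi n a` is the largest prime divisor of `n`; the cofactor
of its full power divides `r - 1`. -/
lemma prime_dvd_Phi_and_index {r m k a : ℕ} (hr : r.Prime) (hm : ¬ r ∣ m)
    (h : r ∣ Phi (r ^ k * m) a) : m ∣ r - 1 := by
  have := Fact.mk hr
  have h1 := orderOf_of_dvd_Phi hr hm h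
  rw [← h1]
  apply orderOf_dvd_of_pow_eq_one
  apply ZMod.pow_card_sub_one_eq_one
  intro h0
  rw [h0, orderOf_zero] at h1
  exact hm (h1 ▸ dvd_zero r)

lemma geom_sum_mod_sq {r : ℕ} (hr : Odd r) {b : ℤ} (h : (r : ℤ) ∣ b - 1) :
    (r : ℤ) ^ 2 ∣ (∑ i ∈ Finset.range r, b ^ i) - r := by
  obtain ⟨t, ht⟩ := h
  have hb : b = 1 + (r : ℤ) * t := by linarith
  have key : ∀ i : ℕ, (r : ℤ) ^ 2 ∣ b ^ i - 1 - (i : ℤ) * ((r : ℤ) * t) := by
    intro i
    induction i with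
    | zero => simp
    | succ i ih =>
      obtain ⟨c, hc⟩ := ih
      refine ⟨c * b + (i : ℤ) * t ^ 2, ?_⟩
      push_cast
      rw [pow_succ, hb]
      rw [hb] at hc
      linear_combination (1 + (r : ℤ) * t) * hc
  have e : (∑ i ∈ Finset.range r, b ^ i) - (r : ℤ)
      = (∑ i ∈ Finset.range r, (b ^ i - 1 - (i : ℤ) * ((r : ℤ) * t)))
        + (∑ i ∈ Finset.range r, (i : ℤ)) * ((r : ℤ) * t) := by
    simp [Finset.sum_sub_distrib, Finset.sum_mul]
  rw [e]
  apply dvd_add (Finset.dvd_sum fun i _ => key i)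
  obtain ⟨s, hs⟩ := hr
  have h2 : (∑ i ∈ Finset.range r, (i : ℤ)) = (r : ℤ) * s := by
    have := Finset.sum_range_id_mul_two r
    rw [hs] at this ⊢
    have h3 : (∑ i ∈ Finset.range (2 * s + 1), i) = (2 * s + 1) * s := by
      simp only [Nat.add_sub_cancel] at this
      nlinarith
    have h4 := congrArg (Nat.cast : ℕ → ℤ) h3
    push_cast at h4 ⊢
    exact h4
  rw [h2]
  exact ⟨(s : ℤ) * t, by ring⟩

lemma zmod_two_cases : ∀ x : ZMod 2, x = 0 ∨ x = 1 := by decide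

/-- If `r` divides both `n > 2` and `Phi n a`, then `r ^ 2` does not divide `Phi n a`. -/
lemma sq_not_dvd_Phi {r m k a : ℕ} (hr : r.Prime) (hm : ¬ r ∣ m) (hk : 0 < k)
    (hn : 2 < r ^ k * m) (h : r ∣ Phi (r ^ k * m) a) : ¬ r ^ 2 ∣ Phi (r ^ k * m) a := by
  have := Fact.mk hr
  have hord := orderOf_of_dvd_Phi hr hm h
  intro h2
  obtain ⟨j, rfl⟩ : ∃ j, k = j + 1 := ⟨k - 1, by omega⟩
  set n := r ^ (j + 1) * m with hn'
  set d := r ^ j * m with hd
  have hmpos : 0 < m := Nat.pos_of_ne_zero (by rintro rfl; exact hm (dvd_zero r))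
  have hnd : n = d * r := by rw [hn', hd]; ring
  have hdn : d ∈ n.properDivisors := by
    rw [Nat.mem_properDivisors, hnd]
    refine ⟨dvd_mul_right _ _, ?_⟩
    have : 0 < d := by rw [hd]; exact Nat.mul_pos (pow_pos hr.pos _) hmpos
    exact (Nat.lt_mul_iff_one_lt_right this).2 hr.one_lt
  have hdiv := eval_dvd (x := (a : ℤ))
    (X_pow_sub_one_mul_cyclotomic_dvd_X_pow_sub_one_of_dvd ℤ hdn)
  simp only [eval_mul, eval_sub, eval_pow, eval_X, eval_one] at hdiv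
  set b : ℤ := (a : ℤ) ^ d with hb
  have hgeom : (a : ℤ) ^ n - 1 = (b - 1) * ∑ i ∈ Finset.range r, b ^ i := by
    rw [mul_geom_sum, hb, hnd, pow_mul]
  have hb1 : (r : ℤ) ∣ b - 1 := by
    rw [← ZMod.intCast_zmod_eq_zero_iff_dvd]
    have : (a : ZMod r) ^ d = 1 := by
      rw [← orderOf_dvd_iff_pow_eq_one, hord, hd]; exact dvd_mul_left _ _
    simp [hb, this]
  have hS : (r : ℤ) ^ 2 ∣ ∑ i ∈ Finset.range r, b ^ i := by
    have h2' : (r : ℤ) ^ 2 ∣ (cyclotomic n ℤ).eval (a : ℤ) := by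
      have := Int.natCast_dvd.2 h2
      simpa using this
    rcases eq_or_ne b 1 with hb0 | hb0
    · -- `a ^ d = 1` forces `a = 1`
      exfalso
      have ha1 : a = 1 := by
        have h' : a ^ d = 1 := by rw [hb] at hb0; exact_mod_cast hb0
        rcases Nat.pow_eq_one.1 h' with h'' | h''
        · exact h''
        · exact absurd h'' (by rw [hd]; exact (Nat.mul_pos (pow_pos hr.pos _) hmpos).ne')
      subst ha1
      have hm1 : m = 1 := by simpa using hord.symm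
      subst hm1
      have he : Phi n 1 = r := by
        rw [Phi, hn', mul_one]
        simp [eval_one_cyclotomic_prime_pow]
      rw [he] at h2
      exact absurd (Nat.le_of_dvd hr.pos h2) (by nlinarith [hr.two_le])
    · rw [hgeom] at hdiv
      exact h2'.trans ((mul_dvd_mul_iff_left (sub_ne_zero.2 hb0)).1 hdiv)
  rcases hr.eq_two_or_odd' with h2r | hodd
  · subst h2r
    have hm1 : m = 1 := by
      rw [← hord]
      apply orderOf_eq_one_iff.2
      rcases zmod_two_cases (a : ZMod 2) with h0 | h0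
      · rw [h0, orderOf_zero] at hord
        omega
      · exact h0
    subst hm1
    have hdeven : Even d := by
      rcases j with _ | j
      · simp [hn'] at hn
      · rw [hd, mul_one, pow_succ]; exact even_two.mul_left _
    simp only [Finset.sum_range_succ, Finset.sum_range_zero, zero_add, pow_zero, pow_one] at hS
    obtain ⟨e, he⟩ := hdeven
    have hodd' : ¬ (2 : ℤ) ∣ (a : ℤ) ^ e := by
      intro h'
      have : (2 : ℤ) ∣ b := by rw [hb, he, pow_add]; exact dvd_mul_of_dvd_left h' _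
      have hb1' : (2 : ℤ) ∣ b - 1 := by simpa using hb1
      omega
    obtain ⟨c, hc⟩ : ∃ c, (a : ℤ) ^ e = 2 * c + 1 := ⟨(a : ℤ) ^ e / 2, by omega⟩
    have hb4 : b = 4 * (c ^ 2 + c) + 1 := by
      rw [hb, he, pow_add, hc]; ring
    obtain ⟨u, hu⟩ := hS
    norm_num at hu
    omega
  · have := (dvd_sub hS (geom_sum_mod_sq hodd hb1))
    simp only [sub_sub_cancel] at this
    have h' : r ^ 2 ∣ r := by exact_mod_cast this
    exact absurd (Nat.le_of_dvd hr.pos h') (by nlinarith [hr.two_le])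

/-- The expansion `Phi (r ^ k * m) a = Phi (r * m) (a ^ r ^ (k - 1))`. -/
lemma Phi_pow_mul {r m a : ℕ} (hr : r.Prime) :
    ∀ j : ℕ, Phi (r ^ (j + 1) * m) a = Phi (r * m) (a ^ r ^ j)
  | 0 => by simp
  | j + 1 => by
    rcases Nat.eq_zero_or_pos m with rfl | hm
    · simp [Phi]
    have hd : r ∣ r ^ (j + 1) * m := dvd_mul_of_dvd_left (dvd_pow_self r (by omega)) _
    have he : r ^ (j + 1 + 1) * m = r ^ (j + 1) * m * r := by ring
    rw [pow_succ' r j, pow_mul, ← Phi_pow_mul hr j, he]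
    unfold Phi
    rw [← cyclotomic_expand_eq_cyclotomic hr hd ℤ, expand_eval]
    simp

lemma Phi_mul_prime {r m : ℕ} (hr : r.Prime) (hm : ¬ r ∣ m) (b : ℕ) :
    Phi (r * m) b * Phi m b = Phi m (b ^ r) := by
  rw [Phi, Phi, Phi, ← Int.natAbs_mul, ← eval_mul, mul_comm r m,
    ← cyclotomic_expand_eq_cyclotomic_mul hr hm ℤ, expand_eval]
  simp

lemma sub_one_pow_le_Phi {n a : ℕ} (ha : 1 < a) : (a - 1) ^ n.totient ≤ Phi n a := by
  have h := sub_one_pow_totient_le_cyclotomic_eval (q := (a : ℝ)) (by exact_mod_cast ha) n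
  rw [← Phi_eq_cast ha] at h
  have : ((a - 1 : ℕ) : ℝ) = (a : ℝ) - 1 := by rw [Nat.cast_sub ha.le]; simp
  rw [← this] at h
  exact_mod_cast h

lemma Phi_le_add_one_pow {n a : ℕ} (ha : 1 < a) : Phi n a ≤ (a + 1) ^ n.totient := by
  have h := cyclotomic_eval_le_add_one_pow_totient (q := (a : ℝ)) (by exact_mod_cast ha) n
  rw [← Phi_eq_cast ha] at h
  exact_mod_cast h

lemma mul_pow_le_pow_sub_one {b r : ℕ} (hb : 2 ≤ b) (hr : 2 < r) :
    b ^ (r - 2) * (b + 1) ≤ b ^ r - 1 := by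
  obtain ⟨s, rfl⟩ : ∃ s, r = s + 3 := ⟨r - 3, by omega⟩
  have e : s + 3 - 2 = s + 1 := by omega
  rw [e]
  have h1 : b ^ (s + 1) * (b + 1) + b ^ (s + 1) ≤ b ^ (s + 3) := by
    have h0 : b ^ (s + 1) * (b + 1 + 1) ≤ b ^ (s + 1) * b ^ 2 :=
      Nat.mul_le_mul_left _ (by nlinarith)
    rw [← pow_add] at h0
    rw [Nat.mul_add _ (b + 1) 1, mul_one] at h0
    exact h0
  have h2 : 1 ≤ b ^ (s + 1) := Nat.one_le_pow _ _ (by omega)
  omega

/-- Main lower bound: for an odd prime `r` not dividing `m`, with `b = a ^ r ^ j`,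
`Phi (r ^ (j+1) * m) a ≥ b ^ ((r - 2) φ(m))`. -/
lemma pow_le_Phi {r m a : ℕ} (hr : r.Prime) (hr2 : 2 < r) (hm : ¬ r ∣ m) (ha : 1 < a) (j : ℕ) :
    a ^ (r ^ j * (r - 2) * m.totient) ≤ Phi (r ^ (j + 1) * m) a := by
  rw [Phi_pow_mul hr j, mul_assoc, pow_mul a]
  set b := a ^ r ^ j with hb
  have hb2 : 2 ≤ b := le_trans ha (by rw [hb]; exact Nat.le_self_pow (pow_pos hr.pos j).ne' a)
  rw [pow_mul]
  have h1 : ((b ^ (r - 2)) * (b + 1)) ^ m.totient ≤ Phi (r * m) b * Phi m b := by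
    rw [Phi_mul_prime hr hm]
    refine le_trans (Nat.pow_le_pow_left (mul_pow_le_pow_sub_one hb2 hr2) _) ?_
    apply sub_one_pow_le_Phi
    exact Nat.one_lt_pow hr.ne_zero (by omega)
  rw [mul_pow] at h1
  have h2 := Phi_le_add_one_pow (n := m) (a := b) (by omega)
  exact Nat.le_of_mul_le_mul_right (h1.trans (Nat.mul_le_mul_left _ h2)) (pow_pos (by omega) _)

/-- Splitting off the full power of a prime divisor. -/
lemma exists_pow_mul {r n : ℕ} (hr : r.Prime) (hn : 0 < n) (h : r ∣ n) :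
    ∃ j m : ℕ, n = r ^ (j + 1) * m ∧ ¬ r ∣ m ∧ 0 < m := by
  obtain ⟨k, m, hm, rfl⟩ := Nat.exists_eq_pow_mul_and_not_dvd hn.ne' r hr.ne_one
  rcases k with _ | j
  · simp [hm] at h
  · exact ⟨j, m, rfl, hm, Nat.pos_of_ne_zero (by rintro rfl; simp at hn)⟩

end Cfsg.Agent.NumberTheory
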