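import Cfsg.Agent.Lib.NumberTheory.Cyclotomic

/-!
Zsigmondy's theorem and its strengthening by Feit (large primitive prime divisors).
-/

namespace Cfsg.Agent.NumberTheory

open Polynomial

lemma one_lt_Phi {n a : ℕ} (ha : 1 < a) (hn : 1 < n) : 1 < Phi n a := by
  have h := sub_one_pow_totient_lt_natAbs_cyclotomic_eval hn (q := a) (by omega)
  have : 1 ≤ (a - 1) ^ n.totient := Nat.one_le_pow _ _ (by omega)
  exact lt_of_le_of_lt this h

/-- Any non-primitive prime divisor of `Phi n a` is the largest prime divisor of `n`. -/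
lemma le_of_prime_dvd_Phi {r s n a : ℕ} (hn : 0 < n) (hr : r.Prime) (hs : s.Prime)
    (hrn : r ∣ n) (h : r ∣ Phi n a) (hsn : s ∣ n) : s ≤ r := by
  obtain ⟨j, m, rfl, hm, hm0⟩ := exists_pow_mul hr hn hrn
  have hd := prime_dvd_Phi_and_index hr hm h
  rcases (Nat.Prime.dvd_mul hs).1 hsn with h' | h'
  · exact le_of_eq ((Nat.prime_dvd_prime_iff_eq hs hr).1 (hs.dvd_of_dvd_pow h'))
  · have := Nat.le_of_dvd (by have := hr.two_le; omega) (h'.trans hd)
    omega

lemma sq_not_dvd_Phi' {r n a : ℕ} (hn : 2 < n) (hr : r.Prime) (hrn : r ∣ n)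
    (h : r ∣ Phi n a) : ¬ r ^ 2 ∣ Phi n a := by
  obtain ⟨j, m, rfl, hm, hm0⟩ := exists_pow_mul hr (by omega) hrn
  exact sq_not_dvd_Phi hr hm j.succ_pos hn h

/-- A number whose only prime divisor is `r`, with `r ^ 2` not dividing it, divides `r`. -/
lemma dvd_of_factorization {N M : ℕ} (hN : 0 < N) (hM : 0 < M)
    (h : ∀ r : ℕ, r.Prime → r ∣ N → r ∣ M ∧ ¬ r ^ 2 ∣ N) : N ∣ M := by
  rw [← Nat.factorization_le_iff_dvd hN.ne' hM.ne']
  intro r
  by_cases hr : r.Prime
  · by_cases hrN : r ∣ N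
    · obtain ⟨h1, h2⟩ := h r hr hrN
      have e1 : 1 ≤ M.factorization r := (hr.dvd_iff_one_le_factorization hM.ne').1 h1
      have e2 : N.factorization r < 2 := by
        by_contra hc
        exact h2 ((hr.pow_dvd_iff_le_factorization hN.ne').2 (not_lt.1 hc))
      omega
    · simp [Nat.factorization_eq_zero_of_not_dvd hrN]
  · simp [Nat.factorization_eq_zero_of_not_prime _ hr]

/-- Zsigmondy's theorem. -/
theorem exists_isPrimitivePrimeDivisor {a n : ℕ} (ha : 1 < a) (hn : 1 < n)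
    (h6 : ¬ (a = 2 ∧ n = 6)) (h2 : ¬ (n = 2 ∧ ∃ m : ℕ, a + 1 = 2 ^ m)) :
    ∃ r : ℕ, IsPrimitivePrimeDivisor r a n := by
  rcases (show n = 2 ∨ 2 < n by omega) with rfl | hn2
  · obtain ⟨s, u, hu, he⟩ :=
      Nat.exists_eq_pow_mul_and_not_dvd (show a + 1 ≠ 0 by omega) 2 (by omega)
    have hu1 : u ≠ 1 := by rintro rfl; exact h2 ⟨rfl, s, by simpa using he⟩
    obtain ⟨r, hr, hru⟩ := Nat.exists_prime_and_dvd hu1
    have hr2 : r ≠ 2 := by rintro rfl; exact hu hru
    have hra : r ∣ a + 1 := he ▸ dvd_mul_of_dvd_right hru _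
    refine ⟨r, hr, ?_, fun k hk hk2 hd => ?_⟩
    · rw [show a ^ 2 - 1 = (a + 1) * (a - 1) by rw [← Nat.sq_sub_sq, one_pow]]
      exact dvd_mul_of_dvd_left hra _
    · obtain rfl : k = 1 := by omega
      rw [pow_one] at hd
      have : r ∣ 2 := by
        have := Nat.dvd_sub hra hd
        rwa [show a + 1 - (a - 1) = 2 by omega] at this
      exact hr2 ((Nat.prime_dvd_prime_iff_eq hr Nat.prime_two).1 this)
  by_contra hno
  push Not at hno
  have hdiv : ∀ r : ℕ, r.Prime → r ∣ Phi n a → r ∣ n := by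
    intro r hr h
    by_contra hrn
    exact hno r (isPrimitivePrimeDivisor_of_dvd_Phi hr (by omega) (by omega) hrn h)
  obtain ⟨r, hr, hrP⟩ := Nat.exists_prime_and_dvd (one_lt_Phi (n := n) ha (by omega)).ne'
  have hrn := hdiv r hr hrP
  have hle : Phi n a ≤ r := Nat.le_of_dvd hr.pos <|
    dvd_of_factorization (Phi_pos ha) hr.pos (fun s hs hsP => by
      have hsn := hdiv s hs hsP
      have e : s = r := le_antisymm (le_of_prime_dvd_Phi (by omega) hr hs hrn hrP hsn)
        (le_of_prime_dvd_Phi (by omega) hs hr hsn hsP hrn)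
      exact ⟨e ▸ dvd_rfl, sq_not_dvd_Phi' hn2 hs hsn hsP⟩)
  have hPhi : Phi n a = r := le_antisymm hle (Nat.le_of_dvd (Phi_pos ha) hrP)
  obtain ⟨j, m, rfl, hm, hm0⟩ := exists_pow_mul hr (by omega) hrn
  have hmd := prime_dvd_Phi_and_index hr hm hrP
  rcases (show r = 2 ∨ r = 3 ∨ 4 ≤ r by have := hr.two_le; omega) with rfl | rfl | h4
  · have hm1 : m = 1 := Nat.dvd_one.1 hmd
    subst hm1
    rw [Phi_pow_mul hr j, mul_one, Phi_two] at hPhi
    have : a ≤ a ^ 2 ^ j := Nat.le_self_pow (pow_pos two_pos _).ne' a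
    omega
  · have hb := pow_le_Phi hr (by norm_num) hm ha j
    rw [hPhi] at hb
    rcases (show j = 0 ∨ 1 ≤ j by omega) with rfl | hj
    · simp only [zero_add, pow_one] at hPhi hn2 h6 hb
      have hm2 : m ≤ 2 := Nat.le_of_dvd two_pos hmd
      interval_cases m
      · have := Phi_mul_prime hr hm a
        rw [Phi_one (by omega), Phi_one (pow_pos (by omega) _), hPhi] at this
        have h3 : a * a * a ≥ 4 * a := by nlinarith
        have : a ^ 3 = a * a * a := by ring
        omega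
      · have := Phi_mul_prime hr hm a
        rw [Phi_two, Phi_two, hPhi] at this
        have h3 : a * a * a ≥ 2 * (2 * a) := by nlinarith
        have h4 : a ^ 3 = a * a * a := by ring
        have : a ≠ 2 := fun e => h6 ⟨e, by norm_num⟩
        have ha3 : 3 ≤ a := by omega
        have h5 : 3 * 3 * a ≤ a * a * a :=
          Nat.mul_le_mul_right a (Nat.mul_le_mul ha3 ha3)
        omega
    · have h3 : 3 ≤ 3 ^ j := Nat.le_self_pow (by omega) 3
      have ht : 0 < m.totient := Nat.totient_pos.2 hm0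
      have : 2 ^ 3 ≤ a ^ (3 ^ j * (3 - 2) * m.totient) :=
        le_trans (Nat.pow_le_pow_left ha 3) (Nat.pow_le_pow_right (by omega) (by
          simp only [show 3 - 2 = 1 from rfl, mul_one]; nlinarith))
      omega
  · have hb := pow_le_Phi hr (by omega) hm ha j
    have h1 : 2 ^ (r - 2) ≤ a ^ (r ^ j * (r - 2) * m.totient) :=
      le_trans (Nat.pow_le_pow_left ha _) (Nat.pow_le_pow_right (by omega) (by
        calc r - 2 = 1 * (r - 2) * 1 := by ring
          _ ≤ _ := Nat.mul_le_mul (Nat.mul_le_mul_right _ (pow_pos hr.pos _))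
            (Nat.totient_pos.2 hm0)))
    have h5 : r ≠ 4 := by rintro rfl; norm_num at hr
    obtain ⟨s, rfl⟩ : ∃ s, r = s + 5 := ⟨r - 5, by omega⟩
    have h2 : s + 5 < 2 ^ (s + 5 - 2) := by
      rw [show s + 5 - 2 = s + 3 by omega, pow_add]
      have := Nat.lt_two_pow_self (n := s)
      norm_num
      omega
    omega

lemma prod_le_mul_prod_sub_one : ∀ (N : ℕ) (S : Finset ℕ),
    (∀ p ∈ S, 2 ≤ p ∧ p ≤ N + 1) → ∏ p ∈ S, p ≤ (N + 1) * ∏ p ∈ S, (p - 1)
  | 0, S, h => by
    rcases S.eq_empty_or_nonempty with rfl | ⟨p, hp⟩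
    · simp
    · have := h p hp; omega
  | N + 1, S, h => by
    have ih := prod_le_mul_prod_sub_one N (S.erase (N + 2)) (fun p hp => by
      have := h p (Finset.mem_of_mem_erase hp)
      have := Finset.ne_of_mem_erase hp
      omega)
    by_cases hN : N + 2 ∈ S
    · rw [← Finset.mul_prod_erase S _ hN, ← Finset.mul_prod_erase S _ hN]
      refine le_trans (Nat.mul_le_mul_left _ ih) (le_of_eq ?_)
      simp only [show N + 2 - 1 = N + 1 by omega]
    · rw [Finset.erase_eq_of_notMem hN] at ih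
      exact ih.trans (Nat.mul_le_mul_right _ (by omega))

/-- If all prime divisors of `m` are smaller than `R`, then `m ≤ (R - 1) φ(m)`. -/
lemma le_mul_totient {m R : ℕ} (h : ∀ p : ℕ, p.Prime → p ∣ m → p < R) (hR : 2 ≤ R) :
    m ≤ (R - 1) * m.totient := by
  obtain ⟨N, rfl⟩ : ∃ N, R = N + 2 := ⟨R - 2, by omega⟩
  have hpos : 0 < ∏ p ∈ m.primeFactors, p :=
    Finset.prod_pos fun p hp => (Nat.prime_of_mem_primeFactors hp).pos
  have h1 := prod_le_mul_prod_sub_one N m.primeFactors (fun p hp => by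
    have hp' := Nat.mem_primeFactors.1 hp
    have := hp'.1.two_le
    have := h p hp'.1 hp'.2.1
    omega)
  have h2 := Nat.totient_mul_prod_primeFactors m
  rw [show N + 2 - 1 = N + 1 by omega]
  refine Nat.le_of_mul_le_mul_right (c := ∏ p ∈ m.primeFactors, p) ?_ hpos
  calc m * ∏ p ∈ m.primeFactors, p ≤ m * ((N + 1) * ∏ p ∈ m.primeFactors, (p - 1)) :=
        Nat.mul_le_mul_left _ h1
    _ = (N + 1) * (m * ∏ p ∈ m.primeFactors, (p - 1)) := by ring
    _ = _ := by rw [← h2]; ring

lemma four_mul_le_two_pow : ∀ {t : ℕ}, 4 ≤ t → 4 * t ≤ 2 ^ t := by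
  intro t ht
  induction t, ht using Nat.le_induction with
  | base => norm_num
  | succ t ht ih => rw [pow_succ]; omega

lemma four_mul_lt_three_pow : ∀ {t : ℕ}, 2 ≤ t → 4 * t < 3 ^ t := by
  intro t ht
  induction t, ht using Nat.le_induction with
  | base => norm_num
  | succ t ht ih => rw [pow_succ]; omega

lemma mul_lt_pow {B C : ℕ} (hB : 2 ≤ B) {x₀ : ℕ} (hx0 : 0 < x₀) (h : C * x₀ < B ^ x₀) :
    ∀ {x : ℕ}, x₀ ≤ x → C * x < B ^ x := by
  intro x hx
  induction x, hx using Nat.le_induction with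
  | base => exact h
  | succ x hx ih =>
    rw [pow_succ]
    nlinarith [Nat.mul_le_mul_left C (show 1 ≤ x by omega),
      Nat.mul_le_mul_left (B ^ x) hB]

lemma cube_lt_two_pow {R : ℕ} (h : 17 ≤ R) : R ^ 3 < 2 ^ (R - 2) := by
  obtain ⟨s, rfl⟩ : ∃ s, R = s + 17 := ⟨R - 17, by omega⟩
  rw [show s + 17 - 2 = s + 15 by omega]
  induction s with
  | zero => norm_num
  | succ s ih =>
    rw [show s + 1 + 15 = s + 15 + 1 by omega, pow_succ 2 (s + 15)]
    have := ih (by omega)
    have : (s + 1 + 17) ^ 3 ≤ 2 * (s + 17) ^ 3 := by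
      ring_nf
      nlinarith [Nat.zero_le (s ^ 2), Nat.zero_le (s ^ 3)]
    omega

/-- Feit's theorem on large primitive prime divisors. -/
theorem exists_large_isPrimitivePrimeDivisor {q n : ℕ} (hq : 2 ≤ q) (hn : 2 ≤ n)
    (h1 : ¬ (n = 2 ∧ ∃ s t : ℕ, t ≤ 1 ∧ q + 1 = 2 ^ s * 3 ^ t))
    (h2 : ¬ (q = 2 ∧ (n = 4 ∨ n = 6 ∨ n = 10 ∨ n = 12 ∨ n = 18)))
    (h3 : ¬ (q = 3 ∧ (n = 4 ∨ n = 6))) (h4 : ¬ (q = 5 ∧ n = 6)) :
    ∃ p : ℕ, IsPrimitivePrimeDivisor p q n ∧ (n + 1 < p ∨ p ^ 2 ∣ q ^ n - 1) := by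
  by_contra hno
  push Not at hno
  have hq1 : 1 < q := hq
  have hprim : ∀ p, IsPrimitivePrimeDivisor p q n → p = n + 1 ∧ ¬ p ^ 2 ∣ q ^ n - 1 := by
    intro p hp
    obtain ⟨e, f⟩ := hno p hp
    have := hp.lt (by omega) (by omega)
    exact ⟨by omega, f⟩
  rcases (show n = 2 ∨ 2 < n by omega) with rfl | hn2
  · obtain ⟨s, u, hu, he⟩ :=
      Nat.exists_eq_pow_mul_and_not_dvd (show q + 1 ≠ 0 by omega) 2 (by omega)
    have hodd : ∀ r : ℕ, r.Prime → r ∣ u → r = 3 ∧ ¬ 3 ^ 2 ∣ u := by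
      intro r hr hru
      have hra : r ∣ q + 1 := he ▸ dvd_mul_of_dvd_right hru _
      have hr2 : r ≠ 2 := by rintro rfl; exact hu hru
      have hrp : IsPrimitivePrimeDivisor r q 2 := by
        apply isPrimitivePrimeDivisor_of_dvd_Phi hr (by omega) two_pos
        · exact fun h => hr2 ((Nat.prime_dvd_prime_iff_eq hr Nat.prime_two).1 h)
        · rwa [Phi_two]
      obtain ⟨e, f⟩ := hprim r hrp
      refine ⟨by omega, fun h9 => f ?_⟩
      rw [e, show q ^ 2 - 1 = (q + 1) * (q - 1) by rw [← Nat.sq_sub_sq, one_pow], he]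
      exact dvd_mul_of_dvd_left (dvd_mul_of_dvd_right h9 _) _
    have hu0 : 0 < u := Nat.pos_of_ne_zero (by rintro rfl; simp at hu)
    have hu3 : u ∣ 3 := dvd_of_factorization hu0 (by norm_num) (fun r hr hru => by
      obtain ⟨rfl, h9⟩ := hodd r hr hru
      exact ⟨dvd_rfl, h9⟩)
    rcases (Nat.dvd_prime Nat.prime_three).1 hu3 with rfl | rfl
    · exact h1 ⟨rfl, s, 0, by omega, by simpa using he⟩
    · exact h1 ⟨rfl, s, 1, le_rfl, by simpa using he⟩
  have hpn : (n + 1).Prime := by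
    obtain ⟨r, hr⟩ := exists_isPrimitivePrimeDivisor hq1 (n := n) (by omega)
      (fun ⟨e, f⟩ => h2 ⟨e, Or.inr (Or.inl f)⟩) (by omega)
    exact (hprim r hr).1 ▸ hr.1
  have heven : Even n := by
    rcases hpn.eq_two_or_odd' with h | h
    · omega
    · simpa [Nat.odd_add] using h
  obtain ⟨R, hRmem, hRmax⟩ : ∃ R ∈ n.primeFactors, ∀ p ∈ n.primeFactors, p ≤ R := by
    have hne : n.primeFactors.Nonempty := ⟨2, by
      simp [Nat.prime_two, heven.two_dvd]; omega⟩
    exact ⟨_, Finset.max'_mem _ hne, fun p hp => Finset.le_max' _ p hp⟩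
  obtain ⟨hR, hRn, -⟩ := Nat.mem_primeFactors.1 hRmem
  have hother : ∀ r : ℕ, r.Prime → r ∣ Phi n q → r ∣ n → r = R := by
    intro r hr hrP hrn
    exact le_antisymm (hRmax r (Nat.mem_primeFactors.2 ⟨hr, hrn, by omega⟩))
      (le_of_prime_dvd_Phi (by omega) hr hR hrn hrP hRn)
  have hdvd : Phi n q ∣ R * (n + 1) ∧ (¬ R ∣ Phi n q → Phi n q ∣ n + 1) := by
    have key : ∀ r : ℕ, r.Prime → r ∣ Phi n q →
        (r = R ∨ r = n + 1) ∧ ¬ r ^ 2 ∣ Phi n q := by
      intro r hr hrP
      by_cases hrn : r ∣ n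
      · exact ⟨Or.inl (hother r hr hrP hrn), sq_not_dvd_Phi' hn2 hr hrn hrP⟩
      · obtain ⟨e, f⟩ := hprim r
          (isPrimitivePrimeDivisor_of_dvd_Phi hr (by omega) (by omega) hrn hrP)
        exact ⟨Or.inr e, fun h => f (h.trans (Phi_dvd n (by omega)))⟩
    refine ⟨dvd_of_factorization (Phi_pos hq1) (Nat.mul_pos hR.pos n.succ_pos) fun r hr hrP => ?_,
      fun hnR => dvd_of_factorization (Phi_pos hq1) n.succ_pos fun r hr hrP => ?_⟩
    · obtain ⟨e, f⟩ := key r hr hrP
      refine ⟨?_, f⟩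
      rcases e with rfl | rfl
      · exact dvd_mul_right _ _
      · exact dvd_mul_left _ _
    · obtain ⟨e, f⟩ := key r hr hrP
      refine ⟨?_, f⟩
      rcases e with rfl | rfl
      · exact absurd hrP hnR
      · exact dvd_rfl
  have hle : Phi n q ≤ R * (n + 1) := Nat.le_of_dvd (Nat.mul_pos hR.pos n.succ_pos) hdvd.1
  obtain ⟨j, m, rfl, hm, hm0⟩ := exists_pow_mul hR (by omega) hRn
  have hmlt : ∀ p : ℕ, p.Prime → p ∣ m → p < R := fun p hp hpm =>
    lt_of_le_of_ne (hRmax p (Nat.mem_primeFactors.2 ⟨hp, dvd_mul_of_dvd_right hpm _, by omega⟩))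
      (by rintro rfl; exact hm hpm)
  rcases (show R = 2 ∨ R = 3 ∨ R = 4 ∨ 5 ≤ R by have := hR.two_le; omega)
    with rfl | rfl | rfl | hR5
  · have hm1 : m = 1 := by
      by_contra hm1
      obtain ⟨p, hp, hpm⟩ := Nat.exists_prime_and_dvd hm1
      have := hmlt p hp hpm; have := hp.two_le; omega
    subst hm1
    rw [Phi_pow_mul hR j, mul_one, Phi_two, mul_one] at hle
    simp only [mul_one] at hn2 hpn h2 h3
    rcases (show j = 0 ∨ j = 1 ∨ j = 2 ∨ 3 ≤ j by omega) with rfl | rfl | rfl | hj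
    · simp at hn2
    · have : q < 4 := by
        by_contra h
        norm_num at hle
        nlinarith [Nat.mul_le_mul (not_lt.1 h) (not_lt.1 h)]
      interval_cases q
      · exact h2 ⟨rfl, by norm_num⟩
      · exact h3 ⟨rfl, by norm_num⟩
    · norm_num at hpn
    · have hbig : 4 * (2 * 2 ^ j) < 2 ^ 2 ^ j := by
        have h8 : (2 : ℕ) ^ 3 ≤ 2 ^ j := Nat.pow_le_pow_right two_pos hj
        have := mul_lt_pow (B := 2) (C := 8) le_rfl (x₀ := 8) (by norm_num) (by norm_num)
          (x := 2 ^ j) h8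
        omega
      have := Nat.pow_le_pow_left hq (2 ^ j)
      rw [pow_succ] at hle
      omega
  · have hm2 : ∃ i, m = 2 ^ (i + 1) := by
      have h2m : 2 ∣ m := by
        rcases (Nat.Prime.dvd_mul Nat.prime_two).1 heven.two_dvd with h | h
        · exact absurd (Nat.prime_two.dvd_of_dvd_pow h) (by norm_num)
        · exact h
      obtain ⟨i, u, rfl, hu, -⟩ := exists_pow_mul Nat.prime_two hm0 h2m
      refine ⟨i, ?_⟩
      rcases eq_or_ne u 1 with rfl | hu1
      · simp
      obtain ⟨p, hp, hpu⟩ := Nat.exists_prime_and_dvd hu1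
      have := hmlt p hp (dvd_mul_of_dvd_right hpu _)
      have := hp.two_le
      obtain rfl : p = 2 := by omega
      exact absurd hpu hu
    obtain ⟨i, rfl⟩ := hm2
    set t := 3 ^ j * 2 ^ i with ht
    have hn6 : 3 ^ (j + 1) * 2 ^ (i + 1) = 6 * t := by rw [ht]; ring
    have hPhi : Phi (3 ^ (j + 1) * 2 ^ (i + 1)) q = Phi 6 (q ^ t) := by
      rw [mul_comm, Phi_pow_mul Nat.prime_two i, mul_comm 2, Phi_pow_mul hR j, ← pow_mul]
      rw [show 2 ^ i * 3 ^ j = t by rw [ht]; ring]
    have ht1 : 1 ≤ t := by rw [ht]; exact Nat.mul_pos (pow_pos (by norm_num) _) (pow_pos two_pos _)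
    rw [hn6] at h2 h3 h4
    rw [hPhi, hn6] at hle hdvd
    have hval : Phi 6 (q ^ t) + q ^ t = q ^ t * q ^ t + 1 := by
      have hc : 2 ≤ q ^ t := le_trans hq (Nat.le_self_pow (by omega) q)
      have h := Phi_mul_prime (r := 3) (m := 2) Nat.prime_three (by norm_num) (q ^ t)
      rw [Phi_two, Phi_two] at h
      generalize q ^ t = c at *
      norm_num at h
      obtain ⟨d, rfl⟩ : ∃ d, c = d + 1 := ⟨c - 1, by omega⟩
      have : Phi 6 (d + 1) * (d + 1 + 1) = (d * d + d + 1) * (d + 1 + 1) := by rw [h]; ring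
      have := Nat.eq_of_mul_eq_mul_right (by omega) this
      nlinarith
    rcases (show t = 1 ∨ 2 ≤ t by omega) with h1' | h2'
    · rw [h1', pow_one] at hval hle hdvd
      have : q < 6 := by
        by_contra h
        have := Nat.mul_le_mul_right q (not_lt.1 h)
        omega
      interval_cases q
      · exact h2 ⟨rfl, by omega⟩
      · exact h3 ⟨rfl, by omega⟩
      · have e : Phi 6 4 = 13 := by omega
        rw [e] at hdvd
        norm_num at hdvd
      · exact h4 ⟨rfl, by omega⟩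
    · have hc : 4 * t ≤ q ^ t ∧ 9 ≤ q ^ t := by
        rcases (show q = 2 ∨ 3 ≤ q by omega) with rfl | h3'
        · have : t ≠ 2 ∧ t ≠ 3 := ⟨fun e => h2 ⟨rfl, by omega⟩, fun e => h2 ⟨rfl, by omega⟩⟩
          have := four_mul_le_two_pow (t := t) (by omega)
          omega
        · have := four_mul_lt_three_pow h2'
          have := Nat.pow_le_pow_left h3' t
          omega
      have := Nat.mul_le_mul_right (q ^ t) hc.2
      omega
  · norm_num at hR
  · set φ := m.totient with hφ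
    have hφ1 : 0 < φ := Nat.totient_pos.2 hm0
    have hmle : m ≤ (R - 1) * φ := le_mul_totient hmlt (by omega)
    have hb := pow_le_Phi hR (by omega) hm hq1 j
    rw [← hφ] at hb
    set M := R ^ j with hM
    have hM1 : 0 < M := pow_pos hR.pos _
    have hnle : R ^ (j + 1) * m + 1 ≤ R * R * (M * φ) := by
      rw [pow_succ, ← hM]
      obtain ⟨s, rfl⟩ : ∃ s, R = s + 1 := ⟨R - 1, by omega⟩
      simp only [Nat.add_sub_cancel] at hmle
      nlinarith [Nat.mul_le_mul_left (M * (s + 1)) hmle,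
        Nat.mul_pos (Nat.mul_pos hM1 hφ1) (show 0 < s + 1 by omega)]
    have hle3 : Phi (R ^ (j + 1) * m) q ≤ R ^ 3 * (M * φ) := by
      refine hle.trans (le_trans (Nat.mul_le_mul_left R hnle) (le_of_eq ?_))
      ring
    have h2x : (2 ^ (R - 2)) ^ (M * φ) ≤ Phi (R ^ (j + 1) * m) q := by
      refine le_trans (le_of_eq ?_) (le_trans (Nat.pow_le_pow_left hq _) hb)
      rw [← pow_mul]; ring_nf
    have hbig : ∀ x₀, 0 < x₀ → R ^ 3 * x₀ < (2 ^ (R - 2)) ^ x₀ → M * φ < x₀ := by
      intro x₀ hx0 h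
      by_contra hx
      have := mul_lt_pow (B := 2 ^ (R - 2)) (C := R ^ 3)
        (Nat.le_self_pow (by omega) 2) hx0 h (not_lt.1 hx)
      omega
    by_cases hR17 : 17 ≤ R
    · have := hbig 1 one_pos (by simpa using cube_lt_two_pow hR17)
      have := Nat.mul_pos hM1 hφ1
      omega
    push Not at hR17
    have hx2 : M * φ < if R = 5 then 3 else 2 := by
      split_ifs with h5
      · subst h5; exact hbig 3 (by norm_num) (by norm_num)
      · obtain rfl | rfl | rfl : R = 7 ∨ R = 11 ∨ R = 13 := by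
          interval_cases R <;> first
            | omega
            | exact absurd hR (by decide)
        · exact hbig 2 two_pos (by norm_num)
        · exact hbig 2 two_pos (by norm_num)
        · exact hbig 2 two_pos (by norm_num)
    have hj : j = 0 := by
      by_contra hj
      have : R ≤ M := Nat.le_self_pow hj R
      have : M ≤ M * φ := Nat.le_mul_of_pos_right _ hφ1
      split_ifs at hx2 <;> omega
    subst hj
    simp only [hM, pow_zero, one_mul, zero_add, pow_one] at *
    have hm_even : 2 ∣ m := by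
      rcases (Nat.Prime.dvd_mul Nat.prime_two).1 heven.two_dvd with h | h
      · have := (Nat.prime_dvd_prime_iff_eq Nat.prime_two hR).1 h
        omega
      · exact h
    have hmb : m ≤ 8 := by
      split_ifs at hx2 with h5
      · subst h5; omega
      · have h1φ : φ = 1 := by omega
        rcases Nat.totient_eq_one_iff.1 h1φ with h | h <;> omega
    have hcases : m = 2 ∨ (R = 5 ∧ (m = 4 ∨ m = 6)) := by
      split_ifs at hx2 with h5
      · subst h5
        have h8 : m ≠ 8 := by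
          rintro rfl
          rw [hφ, show Nat.totient 8 = 4 by decide] at hx2
          omega
        omega
      · exact Or.inl (by
          have h1φ : φ = 1 := by omega
          rcases Nat.totient_eq_one_iff.1 h1φ with h | h <;> omega)
    rcases hcases with rfl | ⟨rfl, rfl | rfl⟩
    · obtain rfl | rfl | rfl | rfl : R = 5 ∨ R = 7 ∨ R = 11 ∨ R = 13 := by
        interval_cases R <;> first
          | omega
          | exact absurd hR (by decide)
      · have hq3 : q ≠ 2 := fun e => h2 ⟨e, by norm_num⟩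
        rcases (show q = 3 ∨ 4 ≤ q by omega) with rfl | hq4
        · have h := Phi_mul_prime (r := 5) (m := 2) (by norm_num) (by norm_num) 3
          rw [Phi_two, Phi_two] at h
          norm_num at h hdvd
          rw [show Phi 10 3 = 61 by omega] at hdvd
          norm_num at hdvd
        · have := Nat.pow_le_pow_left hq4 (5 - 2)
          have e : φ = 1 := by rw [hφ]; decide
          rw [e] at hb
          norm_num at hb this hle
          omega
      · norm_num at hpn
      · have := Nat.pow_le_pow_left hq (11 - 2)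
        have e : φ = 1 := by rw [hφ]; decide
        rw [e] at hb
        norm_num at hb this hle
        omega
      · norm_num at hpn
    · norm_num at hpn
    · have hnR : ¬ 5 ∣ Phi (5 * 6) q := by
        intro h
        have := prime_dvd_Phi_and_index (k := 1) hR hm (by simpa using h)
        norm_num at this
      have h30 := Nat.le_of_dvd (by norm_num) (hdvd.2 hnR)
      have e : φ = 2 := by rw [hφ]; decide
      rw [e] at hb
      have := Nat.pow_le_pow_left hq ((5 - 2) * 2)
      norm_num at hb this h30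
      omega

end Cfsg.Agent.NumberTheory
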