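import Mathlib

/-!
For `n ≥ 11` there are two primes in `(n/2, n]`.  The proof adapts Erdős' proof of Bertrand's
postulate, with one more factor `2n` for the single prime allowed in `(n, 2n]`.
-/

namespace Cfsg.Agent.NumberTheory

section Analysis

open Real

/-- The real inequality behind the existence of two primes. -/
theorem real_two_prime_inequality {x : ℝ} (x_large : (512 : ℝ) ≤ x) :
    2 * x * x * (2 * x) ^ √(2 * x) * 4 ^ (2 * x / 3) ≤ 4 ^ x := by
  let g : ℝ → ℝ := fun x => log x + √(2 * x) * log (2 * x) - log 4 / 3 * x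
  let f : ℝ → ℝ := fun x => log x + g x + log 2
  have hf' : ∀ x, 0 < x → 0 < 2 * x * x * (2 * x) ^ √(2 * x) / 4 ^ (x / 3) := fun x h => by
    have := rpow_pos_of_pos (mul_pos two_pos h) (√(2 * x))
    have := rpow_pos_of_pos four_pos (x / 3)
    positivity
  have hf : ∀ x, 0 < x → f x = log (2 * x * x * (2 * x) ^ √(2 * x) / 4 ^ (x / 3)) := by
    intro x h5
    have h6 := mul_pos (zero_lt_two' ℝ) h5
    have h7 := rpow_pos_of_pos h6 (√(2 * x))
    rw [log_div (mul_pos (mul_pos h6 h5) h7).ne' (rpow_pos_of_pos four_pos _).ne',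
      log_mul (mul_pos h6 h5).ne' h7.ne', log_rpow h6, log_rpow zero_lt_four,
      log_mul h6.ne' h5.ne', log_mul two_ne_zero h5.ne']
    simp only [f, g, log_mul two_ne_zero h5.ne']
    ring
  have h5 : 0 < x := lt_of_lt_of_le (by norm_num1) x_large
  rw [← div_le_one (rpow_pos_of_pos four_pos x), ← div_div_eq_mul_div, ← rpow_sub four_pos, ←
    mul_div 2 x, mul_div_left_comm, ← mul_one_sub, (by norm_num1 : (1 : ℝ) - 2 / 3 = 1 / 3),
    mul_one_div, ← log_nonpos_iff (hf' x h5).le, ← hf x h5]
  have hlog : ConcaveOn ℝ (Set.Ioi 0.5) log :=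
    strictConcaveOn_log_Ioi.concaveOn.subset (Set.Ioi_subset_Ioi (by norm_num)) (convex_Ioi 0.5)
  have hg : ConcaveOn ℝ (Set.Ioi 0.5) g := by
    apply ConcaveOn.sub
    · apply ConcaveOn.add hlog
      convert!
        ((strictConcaveOn_sqrt_mul_log_Ioi.concaveOn.comp_linearMap ((2 : ℝ) • LinearMap.id)))
        using 1
      ext x
      simp only [Set.mem_Ioi, Set.mem_preimage, LinearMap.smul_apply,
        LinearMap.id_coe, id_eq, smul_eq_mul]
      rw [← mul_lt_mul_iff_right₀ (two_pos)]
      norm_num1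
      rfl
    apply ConvexOn.smul
    · refine div_nonneg (log_nonneg (by norm_num1)) (by norm_num1)
    · exact convexOn_id (convex_Ioi (0.5 : ℝ))
  have h : ConcaveOn ℝ (Set.Ioi 0.5) f := (hlog.add hg).add_const _
  suffices ∃ x1 x2, 0.5 < x1 ∧ x1 < x2 ∧ x2 ≤ x ∧ 0 ≤ f x1 ∧ f x2 ≤ 0 by
    obtain ⟨x1, x2, h1, h2, h0, h3, h4⟩ := this
    exact (h.right_le_of_le_left'' h1 ((h1.trans h2).trans_le h0) h2 h0 (h4.trans h3)).trans h4
  refine ⟨18, 512, by norm_num1, by norm_num1, x_large, ?_, ?_⟩
  · have : √(2 * 18 : ℝ) = 6 := (sqrt_eq_iff_mul_self_eq_of_pos (by norm_num1)).mpr (by norm_num1)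
    rw [hf _ (by norm_num1), log_nonneg_iff (by positivity), this, one_le_div (by norm_num1)]
    norm_num1
  · have : √(2 * 512) = 32 :=
      (sqrt_eq_iff_mul_self_eq_of_pos (by norm_num1)).mpr (by norm_num1)
    rw [hf _ (by norm_num1), log_nonpos_iff (hf' _ (by norm_num1)).le, this,
        div_le_one (by positivity)]
    conv in 2 * 512 * 512 => equals 2 ^ 19 => norm_num1
    conv in 2 * 512 => equals 2 ^ 10 => norm_num1
    conv in 32 => rw [← Nat.cast_ofNat]
    rw [rpow_natCast, ← pow_mul, ← pow_add]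
    conv in 4 => equals 2 ^ (2 : ℝ) => rw [rpow_two]; norm_num1
    rw [← rpow_mul, ← rpow_natCast]
    on_goal 1 => apply rpow_le_rpow_of_exponent_le
    all_goals norm_num1

end Analysis

open Nat

/-- The inequality which contradicts a shortage of primes in `(n, 2n]`. -/
theorem two_prime_inequality {n : ℕ} (n_large : 512 ≤ n) :
    2 * n * n * (2 * n) ^ sqrt (2 * n) * 4 ^ (2 * n / 3) ≤ 4 ^ n := by
  rw [← @cast_le ℝ]
  simp only [cast_mul, cast_pow, ← Real.rpow_natCast, cast_ofNat]
  refine _root_.trans ?_ (real_two_prime_inequality (by exact_mod_cast n_large))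
  gcongr
  · have n2_pos : 0 < 2 * n := by positivity
    exact mod_cast n2_pos
  · exact_mod_cast Real.nat_sqrt_le_real_sqrt
  · norm_num1
  · exact cast_div_le.trans (by norm_cast)

/-- An upper bound on the central binomial coefficient if at most one prime lies in `(n, 2n]`. -/
theorem centralBinom_le_of_one_prime (n p₀ : ℕ) (n_large : 2 < n)
    (no_prime : ∀ p : ℕ, p.Prime → n < p → p ≤ 2 * n → p = p₀) :
    centralBinom n ≤ 2 * n * ((2 * n) ^ sqrt (2 * n) * 4 ^ (2 * n / 3)) := by
  have n2_pos : 1 ≤ 2 * n := by omega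
  let f x := x ^ n.centralBinom.factorization x
  have f_le : ∀ p, f p ≤ 2 * n := fun p => pow_factorization_choose_le (by omega)
  have h1 : centralBinom n = ∏ p ∈ Finset.range (2 * n + 1), f p :=
    n.prod_pow_factorization_centralBinom.symm
  rw [h1, ← Finset.prod_filter_mul_prod_filter_not (Finset.range (2 * n + 1)) (fun p => p = p₀)]
  apply mul_le_mul'
  · refine (Finset.prod_le_prod' fun p _ => f_le p).trans ?_
    rw [Finset.prod_const]
    refine (pow_right_mono₀ n2_pos (?_ : _ ≤ 1)).trans (pow_one _).le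
    rw [Finset.filter_eq']
    split <;> simp
  set S := {p ∈ Finset.range (2 * n / 3 + 1) | p.Prime ∧ p ≠ p₀} with hS
  have : ∏ x ∈ {p ∈ Finset.range (2 * n + 1) | ¬p = p₀}, f x = ∏ x ∈ S, f x := by
    refine (Finset.prod_subset (fun x hx => ?_) fun x hx h2x => ?_).symm
    · simp only [hS, Finset.mem_filter, Finset.mem_range] at hx ⊢
      exact ⟨by omega, hx.2.2⟩
    simp only [hS, Finset.mem_filter, Finset.mem_range, not_and, not_not] at hx h2x
    by_cases hp : x.Prime
    · have hbig : 2 * n / 3 < x := by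
        by_contra hle
        exact hx.2 (h2x (by omega) hp)
      have hxn : x ≤ n := by
        by_contra hgt
        exact hx.2 (no_prime x hp (by omega) (by omega))
      simp only [f]
      rw [factorization_centralBinom_of_two_mul_self_lt_three_mul n_large hxn (by omega),
        Nat.pow_zero]
    · simp only [f]
      rw [factorization_eq_zero_of_not_prime n.centralBinom hp, Nat.pow_zero]
  rw [this, ← Finset.prod_filter_mul_prod_filter_not S (· ≤ sqrt (2 * n))]
  apply mul_le_mul'
  · refine (Finset.prod_le_prod' fun p _ => f_le p).trans ?_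
    have : (Finset.Icc 1 (sqrt (2 * n))).card = sqrt (2 * n) := by
      rw [card_Icc, Nat.add_sub_cancel]
    rw [Finset.prod_const]
    refine pow_right_mono₀ n2_pos ((Finset.card_le_card fun x hx => ?_).trans this.le)
    obtain ⟨h1, h2⟩ := Finset.mem_filter.1 hx
    exact Finset.mem_Icc.mpr ⟨(Finset.mem_filter.1 h1).2.1.one_lt.le, h2⟩
  · refine le_trans ?_ (primorial_le_four_pow (2 * n / 3))
    refine (Finset.prod_le_prod' fun p hp => (?_ : f p ≤ p)).trans ?_
    · obtain ⟨h1, h2⟩ := Finset.mem_filter.1 hp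
      refine (pow_right_mono₀ (Finset.mem_filter.1 h1).2.1.one_lt.le ?_).trans (pow_one p).le
      exact Nat.factorization_choose_le_one (sqrt_lt'.mp <| not_le.1 h2)
    refine Finset.prod_le_prod_of_subset_of_one_le' (fun p hp => ?_) ?_
    · simp only [hS, Finset.mem_filter] at hp
      exact Finset.mem_filter.mpr ⟨hp.1.1, hp.1.2.1⟩
    · exact fun p hp _ => (Finset.mem_filter.1 hp).2.one_lt.le

/-- There are two primes in `(m, 2m]` for `m ≥ 6`. -/
theorem exists_two_primes_lt_and_le_two_mul {m : ℕ} (hm : 6 ≤ m) :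
    ∃ p q, p.Prime ∧ q.Prime ∧ m < p ∧ p < q ∧ q ≤ 2 * m := by
  rcases lt_or_ge m 512 with h | h
  · by_cases h1 : m < 7
    · exact ⟨7, 11, by norm_num, by norm_num, by omega, by norm_num, by omega⟩
    by_cases h2 : m < 11
    · exact ⟨11, 13, by norm_num, by norm_num, by omega, by norm_num, by omega⟩
    by_cases h3 : m < 17
    · exact ⟨17, 19, by norm_num, by norm_num, by omega, by norm_num, by omega⟩
    by_cases h4 : m < 29
    · exact ⟨29, 31, by norm_num, by norm_num, by omega, by norm_num, by omega⟩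
    by_cases h5 : m < 47
    · exact ⟨47, 53, by norm_num, by norm_num, by omega, by norm_num, by omega⟩
    by_cases h6 : m < 83
    · exact ⟨83, 89, by norm_num, by norm_num, by omega, by norm_num, by omega⟩
    by_cases h7 : m < 157
    · exact ⟨157, 163, by norm_num, by norm_num, by omega, by norm_num, by omega⟩
    by_cases h8 : m < 311
    · exact ⟨311, 313, by norm_num, by norm_num, by omega, by norm_num, by omega⟩
    · exact ⟨617, 619, by norm_num, by norm_num, by omega, by norm_num, by omega⟩
  · obtain ⟨p₀, hp₀, hlt, hle⟩ := Nat.exists_prime_lt_and_le_two_mul m (by omega)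
    by_contra hne
    push Not at hne
    have hone : ∀ p : ℕ, p.Prime → m < p → p ≤ 2 * m → p = p₀ := by
      intro p hp h1 h2
      rcases lt_trichotomy p p₀ with h' | h' | h'
      · have := hne p p₀ hp hp₀ h1 h'
        omega
      · exact h'
      · have := hne p₀ p hp₀ hp hlt h'
        omega
    have h4 := Nat.four_pow_lt_mul_centralBinom m (by omega)
    have h5 := centralBinom_le_of_one_prime m p₀ (by omega) hone
    have h6 : m * centralBinom m ≤ 4 ^ m := by
      refine (Nat.mul_le_mul_left m h5).trans (le_trans (le_of_eq ?_) (two_prime_inequality h))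
      ring
    omega

/-- There are two primes in `(n/2, n]` for `n ≥ 11`. -/
theorem exists_two_primes {n : ℕ} (hn : 11 ≤ n) :
    ∃ p q, p.Prime ∧ q.Prime ∧ n < 2 * p ∧ p < q ∧ q ≤ n := by
  rcases Nat.lt_or_ge n 12 with h | h
  · exact ⟨7, 11, by norm_num, by norm_num, by omega, by norm_num, by omega⟩
  · obtain ⟨p, q, hp, hq, h1, h2, h3⟩ := exists_two_primes_lt_and_le_two_mul (m := n / 2) (by omega)
    exact ⟨p, q, hp, hq, by omega, h2, by omega⟩

end Cfsg.Agent.NumberTheory
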